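import Mathlib.CategoryTheory.Abelian.Basic
import Mathlib.CategoryTheory.Adjunction.Evaluation
import Mathlib.CategoryTheory.Preadditive.Injective.Basic
import Mathlib.CategoryTheory.Limits.Shapes.FiniteProducts

/-!
# Injective inverse systems

An injective object of `ℕᵒᵖ ⥤ A` has injective levels and split epimorphic transition maps.
-/

set_option autoImplicit false
set_option linter.style.haveILetI false

universe v u

open CategoryTheory CategoryTheory.Limits Opposite

namespace Groth.Agent.H15Site.LimTower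

variable {A : Type u} [Category.{v} A] [Abelian A]

instance subsingleton_hom_natOp (a b : ℕᵒᵖ) : Subsingleton (a ⟶ b) :=
  ⟨fun f g => Quiver.Hom.unop_inj (Subsingleton.elim _ _)⟩

instance finite_hom_natOp (a b : ℕᵒᵖ) : Finite (a ⟶ b) := inferInstance

theorem mono_desc {ι ι' : Type} [Finite ι] [Finite ι'] [Subsingleton ι] [Subsingleton ι'] {X Y : A}
    (f : X ⟶ Y) [Mono f] (h : ι → ι') :
    Mono (Sigma.desc fun g => f ≫ Sigma.ι (fun _ : ι' => Y) (h g) :
      (∐ fun _ : ι => X) ⟶ ∐ fun _ : ι' => Y) := by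
  refine ⟨fun {W} a b e => ?_⟩
  rcases isEmpty_or_nonempty ι with hι | hι
  · have h0 : IsZero (∐ fun _ : ι => X) :=
      (IsZero.iff_id_eq_zero _).2 (Sigma.hom_ext _ _ fun g => isEmptyElim g)
    exact h0.eq_of_tgt a b
  · obtain ⟨g⟩ := hι
    have e1 : (Sigma.desc fun g => f ≫ Sigma.ι (fun _ : ι' => Y) (h g) :
        (∐ fun _ : ι => X) ⟶ ∐ fun _ : ι' => Y) ≫ Sigma.desc (fun _ => 𝟙 Y) =
          Sigma.desc (fun _ => 𝟙 X) ≫ f := Sigma.hom_ext _ _ fun g' => by simp
    have e2 : Sigma.desc (fun _ => 𝟙 X) ≫ Sigma.ι (fun _ : ι => X) g = 𝟙 _ := Sigma.hom_ext _ _ fun g' => by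
      obtain rfl : g = g' := Subsingleton.elim _ _
      simp
    have e3 := congrArg (· ≫ Sigma.desc (fun _ => 𝟙 Y)) e
    simp only [Category.assoc, e1] at e3
    rw [← Category.assoc, ← Category.assoc, cancel_mono f] at e3
    have e4 := congrArg (· ≫ Sigma.ι (fun _ : ι => X) g) e3
    simp only [Category.assoc, e2, Category.comp_id] at e4
    exact e4

theorem injective_obj (I : ℕᵒᵖ ⥤ A) [Injective I] (n : ℕᵒᵖ) : Injective (I.obj n) := by
  haveI : (evaluationLeftAdjoint A n).PreservesMonomorphisms := ⟨fun {X Y} f _ => by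
    haveI : ∀ t, Mono (((evaluationLeftAdjoint A n).map f).app t) := fun t => mono_desc f id
    exact NatTrans.mono_of_mono_app _⟩
  exact Injective.injective_of_adjoint (evaluationAdjunctionRight A n) I

theorem exists_section (I : ℕᵒᵖ ⥤ A) [Injective I] {a b : ℕᵒᵖ} (k : a ⟶ b) :
    ∃ s : I.obj b ⟶ I.obj a, s ≫ I.map k = 𝟙 _ := by
  let X := I.obj b
  let m : (evaluationLeftAdjoint A b).obj X ⟶ (evaluationLeftAdjoint A a).obj X :=
    { app := fun t => Sigma.desc fun g => 𝟙 X ≫ Sigma.ι (fun _ : a ⟶ t => X) (k ≫ g)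
      naturality := fun t t' f => Sigma.hom_ext _ _ fun g => by simp [evaluationLeftAdjoint] }
  haveI : ∀ t, Mono (m.app t) := fun t => mono_desc (𝟙 X) fun g => k ≫ g
  haveI : Mono m := NatTrans.mono_of_mono_app _
  let φ : (evaluationLeftAdjoint A b).obj X ⟶ I :=
    { app := fun t => Sigma.desc fun g => I.map g
      naturality := fun t t' f => Sigma.hom_ext _ _ fun g => by simp [evaluationLeftAdjoint] }
  let ψ := Injective.factorThru φ m
  let ι₀ : X ⟶ ((evaluationLeftAdjoint A a).obj X).obj a := Sigma.ι (fun _ : a ⟶ a => X) (𝟙 a)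
  let ι₁ : X ⟶ ((evaluationLeftAdjoint A b).obj X).obj b := Sigma.ι (fun _ : b ⟶ b => X) (𝟙 b)
  refine ⟨ι₀ ≫ ψ.app a, ?_⟩
  have h1 : ι₁ ≫ φ.app b = 𝟙 X := (Sigma.ι_desc (fun g : b ⟶ b => I.map g) (𝟙 b)).trans (I.map_id b)
  have h2 : ι₀ ≫ ((evaluationLeftAdjoint A a).obj X).map k = ι₁ ≫ m.app b := by
    simp [ι₀, ι₁, m, evaluationLeftAdjoint]
  calc (ι₀ ≫ ψ.app a) ≫ I.map k = ι₀ ≫ ((evaluationLeftAdjoint A a).obj X).map k ≫ ψ.app b :=
        (Category.assoc _ _ _).trans (congrArg (fun r => ι₀ ≫ r) (ψ.naturality k).symm)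
    _ = (ι₁ ≫ m.app b) ≫ ψ.app b := (Category.assoc _ _ _).symm.trans (congrArg (· ≫ ψ.app b) h2)
    _ = ι₁ ≫ φ.app b := (Category.assoc _ _ _).trans
        (congrArg (fun r => ι₁ ≫ r) (NatTrans.congr_app (Injective.comp_factorThru φ m) b))
    _ = 𝟙 _ := h1

end Groth.Agent.H15Site.LimTower
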