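import Groth.Agent.H15Site.LimTower.Inj
import Groth.Agent.H24FMod.LimH
import Mathlib.CategoryTheory.Abelian.RightDerived
import Mathlib.Algebra.Homology.ShortComplex.ExactFunctor

/-!
# Derived limits of towers which are acyclic on a covering class

`Tw G B`: the levels have no higher cohomology on `B`; `isZero_ge_two`, `isZero_ge_one`.
-/

set_option autoImplicit false
set_option linter.style.haveILetI false
set_option linter.unusedSectionVars false
set_option backward.isDefEq.respectTransparency false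
set_option backward.isDefEq.respectTransparency.types false

universe u v w

open CategoryTheory CategoryTheory.Limits Opposite Abelian

namespace Groth.Agent.H15Site.LimTower

open H24FMod

attribute [local instance 10000] H15Site.SiteInst.hasSheafifySite H15Site.SiteInst.hasWeakSheafifySite
  H15Site.SiteInst.hasExtSite H15Site.SiteInst.enoughInjSite

variable {C : Type u} [SmallCategory C] {J : GrothendieckTopology C}
  {A : Type w} [Category.{v} A] [Abelian A] [HasLimitsOfShape ℕᵒᵖ A]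
  (G : A ⥤ Sheaf J AddCommGrpCat.{u}) [G.Additive] [G.Faithful] [PreservesFiniteLimits G]
  [PreservesFiniteColimits G] [PreservesLimitsOfShape ℕᵒᵖ G] {B : Set C}

/-- Levels without higher cohomology on `B`. -/
def TAcyc (B : Set C) (X : ℕᵒᵖ ⥤ A) : Prop := ∀ n, LimH.Acyc B (G.obj (X.obj n))

/-- Transition maps surjective on sections over `B`. -/
def TSurj (B : Set C) (X : ℕᵒᵖ ⥤ A) : Prop :=
  ∀ U ∈ B, ∀ n : ℕ, Function.Surjective ((G.map (X.map (homOfLE (Nat.le_succ n)).op)).hom.app (op U)).hom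

/-- `lim¹` of the sections over `B` vanishes. -/
def TLimOne (B : Set C) (X : ℕᵒᵖ ⥤ A) : Prop :=
  ∀ U ∈ B, ∀ z : ∀ n : ℕ, (G.obj (X.obj (op n))).obj.obj (op U),
    ∃ w : ∀ n : ℕ, (G.obj (X.obj (op n))).obj.obj (op U), ∀ n,
      w n - ((G.map (X.map (homOfLE (Nat.le_succ n)).op)).hom.app (op U)).hom (w (n + 1)) = z n

variable {G}

variable (G) in
/-- Naturality on sections. -/
theorem nat_app {X Y : ℕᵒᵖ ⥤ A} (φ : X ⟶ Y) {a b : ℕᵒᵖ} (k : a ⟶ b) (U : C)
    (x : (G.obj (X.obj a)).obj.obj (op U)) :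
    ((G.map (Y.map k)).hom.app (op U)).hom (((G.map (φ.app a)).hom.app (op U)).hom x) =
      ((G.map (φ.app b)).hom.app (op U)).hom (((G.map (X.map k)).hom.app (op U)).hom x) := by
  have h : G.map (φ.app a) ≫ G.map (Y.map k) = G.map (X.map k) ≫ G.map (φ.app b) := by
    rw [← G.map_comp, ← G.map_comp, φ.naturality]
  exact ConcreteCategory.congr_hom (congrArg (fun f : G.obj (X.obj a) ⟶ G.obj (Y.obj b) => f.hom.app (op U)) h) x

theorem tLimOne_of_tSurj {X : ℕᵒᵖ ⥤ A} (h : TSurj G B X) : TLimOne G B X := fun U hU z => by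
  choose r hr using h U hU
  let w : ∀ n : ℕ, (G.obj (X.obj (op n))).obj.obj (op U) := fun n => Nat.rec 0 (fun k v => r k (v - z k)) n
  refine ⟨w, fun n => ?_⟩
  show w n - ((G.map (X.map (homOfLE (Nat.le_succ n)).op)).hom.app (op U)).hom (r n (w n - z n)) = z n
  rw [hr, sub_sub_cancel]

/-- Exactness at a level. -/
theorem shortExact_level {S : ShortComplex (ℕᵒᵖ ⥤ A)} (hS : S.ShortExact) (n : ℕᵒᵖ) :
    (S.map ((evaluation _ _).obj n ⋙ G)).ShortExact :=
  hS.map_of_exact _

theorem surjective_level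
    {S : ShortComplex (ℕᵒᵖ ⥤ A)} (hS' : S.ShortExact) (h₁ : TAcyc G B S.X₁) (U : C) (hU : U ∈ B) (n : ℕᵒᵖ) :
    Function.Surjective ((G.map (S.g.app n)).hom.app (op U)).hom :=
  LimH.surjective_sect_of_shortExact (shortExact_level hS' n) (h₁ n) U hU

theorem tAcyc_X₃ {S : ShortComplex (ℕᵒᵖ ⥤ A)} (hS : S.ShortExact) (h₁ : TAcyc G B S.X₁) (h₂ : TAcyc G B S.X₂) :
    TAcyc G B S.X₃ := fun n => LimH.acyc_X₃ (shortExact_level hS n) (h₁ n) (h₂ n)

theorem tSurj_X₃ {S : ShortComplex (ℕᵒᵖ ⥤ A)} (hS : S.ShortExact) (h₁ : TAcyc G B S.X₁) (h₂ : TSurj G B S.X₂) :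
    TSurj G B S.X₃ := fun U hU n y => by
  obtain ⟨x, rfl⟩ := LimH.surjective_sect_of_shortExact (shortExact_level hS (op n)) (h₁ _) U hU y
  obtain ⟨x', rfl⟩ := h₂ U hU n x
  refine ⟨((G.map (S.g.app (op (n + 1)))).hom.app (op U)).hom x', ?_⟩
  exact nat_app G S.g _ U x'

theorem epi_lim (hB : LimH.IsCovering J B) {S : ShortComplex (ℕᵒᵖ ⥤ A)} (hS : S.ShortExact)
    (h₁ : TAcyc G B S.X₁) (hl : TLimOne G B S.X₁) : Epi (lim.map S.g) := by
  haveI : Epi (G.map (lim.map S.g)) := by
    refine LimH.epi_of_surjective hB _ fun U hU s => ?_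
    let sn : ∀ n : ℕ, (G.obj (S.X₃.obj (op n))).obj.obj (op U) :=
      fun n => ((G.map (limit.π S.X₃ (op n))).hom.app (op U)).hom s
    choose t ht using fun n : ℕ => surjective_level (G := G) (B := B) (hS' := hS) h₁ U hU (op n) (sn n)
    have hsn : ∀ n, ((G.map (S.X₃.map (homOfLE (Nat.le_succ n)).op)).hom.app (op U)).hom (sn (n + 1)) = sn n := fun n =>
      ConcreteCategory.congr_hom (congrArg (fun f => f.hom.app (op U))
        ((G.map_comp _ _).symm.trans (congrArg G.map (limit.w S.X₃ (homOfLE (Nat.le_succ n)).op)))) s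
    let d : ∀ n, (G.obj (S.X₂.obj (op n))).obj.obj (op U) :=
      fun n => t n - ((G.map (S.X₂.map (homOfLE (Nat.le_succ n)).op)).hom.app (op U)).hom (t (n + 1))
    have hd : ∀ n, ∃ z, ((G.map (S.f.app (op n))).hom.app (op U)).hom z = d n := fun n => by
      have hS' := shortExact_level (G := G) hS (op n)
      haveI := hS'.mono_f
      have h0 : CohFree.ofSect J U _ (d n) ≫ G.map (S.g.app (op n)) = 0 := by
        refine (CohFree.homEquivSect J U _).injective ?_
        refine (LimH.evalGen_comp _ _).trans ?_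
        rw [CohFree.evalGen_ofSect, map_zero]
        show ((G.map (S.g.app (op n))).hom.app (op U)).hom (t n - _) = 0
        rw [map_sub, ht, sub_eq_zero]
        refine (hsn n).symm.trans ?_
        refine Eq.trans ?_ (nat_app G S.g (homOfLE (Nat.le_succ n)).op U (t (n + 1)))
        exact congrArg ((G.map (S.X₃.map _)).hom.app (op U)).hom (ht (n + 1)).symm
      obtain ⟨k, hk⟩ := KernelFork.IsLimit.lift' hS'.fIsKernel (CohFree.ofSect J U _ (d n)) h0
      refine ⟨CohFree.evalGen J U _ k, (LimH.evalGen_comp _ _).symm.trans ?_⟩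
      exact (congrArg (CohFree.evalGen J U _) hk).trans (CohFree.evalGen_ofSect J U _ _)
    choose z hz using hd
    obtain ⟨w, hw⟩ := hl U hU z
    let t' : ∀ n, (G.obj (S.X₂.obj (op n))).obj.obj (op U) :=
      fun n => t n - ((G.map (S.f.app (op n))).hom.app (op U)).hom (w n)
    have ht' : ∀ n, ((G.map (S.X₂.map (homOfLE (Nat.le_succ n)).op)).hom.app (op U)).hom (t' (n + 1)) = t' n := by
      intro n
      have e : ((G.map (S.X₂.map (homOfLE (Nat.le_succ n)).op)).hom.app (op U)).hom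
          (((G.map (S.f.app (op (n + 1)))).hom.app (op U)).hom (w (n + 1))) =
          ((G.map (S.f.app (op n))).hom.app (op U)).hom
            (((G.map (S.X₁.map (homOfLE (Nat.le_succ n)).op)).hom.app (op U)).hom (w (n + 1))) :=
        nat_app G S.f (homOfLE (Nat.le_succ n)).op U (w (n + 1))
      have hz' := hz n
      rw [← hw n, map_sub] at hz'
      simp only [t', map_sub, e]
      simp only [d] at hz'
      rw [sub_eq_sub_iff_add_eq_add] at hz' ⊢
      rw [add_comm, hz']
    let c : Cone (S.X₂ ⋙ G) := ⟨CohCx.freeSheaf J U, NatTrans.ofOpSequence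
      (F := (Functor.const ℕᵒᵖ).obj (CohCx.freeSheaf J U)) (G := S.X₂ ⋙ G)
      (fun n => CohFree.ofSect J U _ (t' n)) fun n => (CohFree.homEquivSect J U _).injective (by
        refine ((congrArg (CohFree.homEquivSect J U _) (Category.id_comp _)).trans ?_)
        refine Eq.trans ?_ (LimH.evalGen_comp _ _).symm
        show CohFree.evalGen J U _ (CohFree.ofSect J U _ (t' n)) = _
        rw [CohFree.evalGen_ofSect, CohFree.evalGen_ofSect]
        exact (ht' n).symm)⟩
    let hl₂ := isLimitOfPreserves G (limit.isLimit S.X₂)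
    refine ⟨CohFree.evalGen J U _ (hl₂.lift c), (LimH.evalGen_comp _ _).symm.trans ?_⟩
    refine Eq.trans (congrArg (CohFree.evalGen J U _) ?_) (CohFree.evalGen_ofSect J U _ s)
    refine (isLimitOfPreserves G (limit.isLimit S.X₃)).hom_ext fun n => (CohFree.homEquivSect J U _).injective ?_
    show CohFree.evalGen J U _ ((hl₂.lift c ≫ G.map (lim.map S.g)) ≫ G.map (limit.π S.X₃ n)) =
      CohFree.evalGen J U _ (CohFree.ofSect J U _ s ≫ G.map (limit.π S.X₃ n))
    rw [Category.assoc, ← G.map_comp, lim_map, limMap_π, G.map_comp, ← Category.assoc,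
      show hl₂.lift c ≫ G.map (limit.π S.X₂ n) = c.π.app n from hl₂.fac c n,
      LimH.evalGen_comp, LimH.evalGen_comp, CohFree.evalGen_ofSect]
    show ((G.map (S.g.app n)).hom.app (op U)).hom (CohFree.evalGen J U _ (CohFree.ofSect J U _ (t' n.unop))) = sn n.unop
    rw [CohFree.evalGen_ofSect]
    simp only [t', map_sub, ht]
    rw [show ((G.map (S.g.app n)).hom.app (op U)).hom (((G.map (S.f.app n)).hom.app (op U)).hom (w n.unop)) = 0 from
      (ConcreteCategory.congr_hom (congrArg (fun f => f.hom.app (op U))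
        ((G.map_comp _ _).symm.trans ((congrArg G.map (congrArg (fun f => f.app n) S.zero)).trans (G.map_zero _ _))))
          (w n.unop)), sub_zero]
  exact G.epi_of_epi_map inferInstance

theorem tSurj_injective (I : ℕᵒᵖ ⥤ A) [Injective I] : TSurj G B I := fun U _ n y => by
  obtain ⟨s, hs⟩ := exists_section I (homOfLE (Nat.le_succ n)).op
  refine ⟨((G.map s).hom.app (op U)).hom y, ?_⟩
  refine (ConcreteCategory.congr_hom (congrArg (fun f => f.hom.app (op U))
    ((G.map_comp s _).symm.trans ((congrArg G.map hs).trans (G.map_id _)))) y).trans ?_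
  rfl

variable (hI : ∀ (I : A) [Injective I], LimH.Acyc B (G.obj I))
include hI

theorem tAcyc_injective (I : ℕᵒᵖ ⥤ A) [Injective I] : TAcyc G B I := fun n =>
  haveI := injective_obj I n
  hI _

section Derived

variable [HasInjectiveResolutions (ℕᵒᵖ ⥤ A)] [(lim : (ℕᵒᵖ ⥤ A) ⥤ A).Additive]
  (hB : LimH.IsCovering J B) {E : ℕᵒᵖ ⥤ A} (hE : TAcyc G B E) (R : InjectiveResolution E)

omit hI

/-- Cocycles. -/
noncomputable abbrev Z (k : ℕ) : ℕᵒᵖ ⥤ A := kernel (R.cocomplex.d k (k + 1))

/-- The map to the next cocycles. -/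
noncomputable abbrev qq (k : ℕ) : R.cocomplex.X k ⟶ Z R (k + 1) :=
  kernel.lift _ (R.cocomplex.d k (k + 1)) (R.cocomplex.d_comp_d _ _ _)

/-- `Z k → I k → Z (k + 1)`. -/
noncomputable abbrev seqZ (k : ℕ) : ShortComplex (ℕᵒᵖ ⥤ A) :=
  ShortComplex.mk (kernel.ι (R.cocomplex.d k (k + 1))) (qq R k) ((cancel_mono (kernel.ι _)).1 (by simp))

/-- `E → I 0 → Z 1`. -/
noncomputable abbrev seqE : ShortComplex (ℕᵒᵖ ⥤ A) :=
  ShortComplex.mk (X₁ := E) (show E ⟶ R.cocomplex.X 0 from R.ι.f 0)
    (qq R 0) ((cancel_mono (kernel.ι _)).1 (by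
      rw [Category.assoc, kernel.lift_ι, zero_comp]
      exact R.ι_f_zero_comp_complex_d))

theorem shortExact_seqZ (k : ℕ) : (seqZ R k).ShortExact where
  exact := ShortComplex.exact_of_f_is_kernel _ (isKernelOfComp (kernel.ι (R.cocomplex.d (k + 1) (k + 1 + 1))) (R.cocomplex.d k (k + 1))
    (kernelIsKernel _) _ (by simp))
  mono_f := inferInstanceAs (Mono (kernel.ι _))
  epi_g := (ShortComplex.exact_iff_epi_kernel_lift _).1 (R.exact_succ k)

theorem shortExact_seqE : (seqE R).ShortExact where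
  exact := ShortComplex.exact_of_f_is_kernel _ (isKernelOfComp (kernel.ι (R.cocomplex.d (0 + 1) (0 + 1 + 1))) (R.cocomplex.d 0 1)
    R.isLimitKernelFork _ (by simp))
  mono_f := inferInstanceAs (Mono (R.ι.f 0))
  epi_g := (ShortComplex.exact_iff_epi_kernel_lift _).1 (R.exact_succ 0)

include hI hE

theorem good (k : ℕ) : TAcyc G B (Z R (k + 1)) ∧ TSurj G B (Z R (k + 1)) := by
  induction k with
  | zero =>
    haveI : Injective (R.cocomplex.X 0) := R.injective 0
    exact ⟨tAcyc_X₃ (S := seqE R) (shortExact_seqE R) hE (tAcyc_injective hI (R.cocomplex.X 0)),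
      tSurj_X₃ (S := seqE R) (shortExact_seqE R) hE (tSurj_injective (R.cocomplex.X 0))⟩
  | succ k ih =>
    haveI : Injective (R.cocomplex.X (k + 1)) := R.injective (k + 1)
    exact ⟨tAcyc_X₃ (S := seqZ R (k + 1)) (shortExact_seqZ R (k + 1)) ih.1 (tAcyc_injective hI (R.cocomplex.X (k + 1))),
      tSurj_X₃ (S := seqZ R (k + 1)) (shortExact_seqZ R (k + 1)) ih.1 (tSurj_injective (R.cocomplex.X (k + 1)))⟩

omit hI hE in
theorem isZero_of_epi (k : ℕ) (h : Epi (lim.map (qq R k))) :
    IsZero (((lim : (ℕᵒᵖ ⥤ A) ⥤ A).rightDerived (k + 1)).obj E) := by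
  refine IsZero.of_iso ?_ (R.isoRightDerivedObj lim (k + 1))
  refine (HomologicalComplex.exactAt_iff_isZero_homology _ _).1 ?_
  refine (HomologicalComplex.exactAt_iff' _ k (k + 1) (k + 1 + 1) (by simp) (by simp)).2 ?_
  let T : ShortComplex A := ShortComplex.mk (lim.map (kernel.ι (R.cocomplex.d (k + 1) (k + 1 + 1))))
    (lim.map (R.cocomplex.d (k + 1) (k + 1 + 1))) (by rw [← Functor.map_comp, kernel.condition, Functor.map_zero])
  haveI : (lim : (ℕᵒᵖ ⥤ A) ⥤ A).IsRightAdjoint := constLimAdj.isRightAdjoint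
  have hT : T.Exact := ShortComplex.exact_of_f_is_kernel _
    (KernelFork.mapIsLimit _ (kernelIsKernel (R.cocomplex.d (k + 1) (k + 1 + 1))) lim)
  let T' := ((lim : (ℕᵒᵖ ⥤ A) ⥤ A).mapHomologicalComplex (ComplexShape.up ℕ)).obj R.cocomplex
  show (T'.sc' k (k + 1) (k + 1 + 1)).Exact
  let φ : T'.sc' k (k + 1) (k + 1 + 1) ⟶ T :=
    { τ₁ := lim.map (qq R k)
      τ₂ := 𝟙 _
      τ₃ := 𝟙 _
      comm₁₂ := show lim.map (qq R k) ≫ lim.map (kernel.ι _) = lim.map (R.cocomplex.d k (k + 1)) ≫ 𝟙 _ by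
        rw [← Functor.map_comp, kernel.lift_ι, Category.comp_id]
      comm₂₃ := show 𝟙 _ ≫ lim.map (R.cocomplex.d (k + 1) (k + 1 + 1)) = _ ≫ 𝟙 _ by
        rw [Category.id_comp, Category.comp_id]
        rfl }
  exact (ShortComplex.exact_iff_of_epi_of_isIso_of_mono φ).2 hT

include hB in
theorem isZero_ge_two (i : ℕ) (hi : 2 ≤ i) : IsZero (((lim : (ℕᵒᵖ ⥤ A) ⥤ A).rightDerived i).obj E) := by
  obtain ⟨k, rfl⟩ : ∃ k, i = k + 1 + 1 := ⟨i - 2, by omega⟩
  let R := Classical.choice (HasInjectiveResolution.out (Z := E))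
  obtain ⟨ha, hs⟩ := good hI hE R k
  exact isZero_of_epi R (k + 1) (epi_lim hB (shortExact_seqZ R (k + 1)) ha (tLimOne_of_tSurj hs))

include hB in
theorem isZero_ge_one (hl : TLimOne G B E) (i : ℕ) (hi : 1 ≤ i) :
    IsZero (((lim : (ℕᵒᵖ ⥤ A) ⥤ A).rightDerived i).obj E) := by
  rcases Nat.lt_or_ge i 2 with h | h
  · obtain rfl : i = 0 + 1 := by omega
    let R := Classical.choice (HasInjectiveResolution.out (Z := E))
    exact isZero_of_epi R 0 (epi_lim hB (shortExact_seqE R) hE hl)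
  · exact isZero_ge_two hI hB hE i h

end Derived

end Groth.Agent.H15Site.LimTower
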